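import Cfsg.Agent.H566.Main

/-!
# Coprime automorphisms of prime order of a simple group (helper580, task 1818)

* `two_lt_card_fixed_of` : a coprime automorphism of prime order of a nonabelian simple group fixes more than two elements.
-/

set_option autoImplicit false

namespace Cfsg.Agent.H580.Lsp

open Cfsg

universe u

theorem two_lt_card_fixed_of (hS : ∀ (X : Type u) [Group X] [Finite X] [IsSimpleGroup X], Cfsg.IsKnownSimple' X)
    {M : Type u} [Group M] [Finite M] [IsSimpleGroup M] (hM : ¬ IsMulCommutative M) (φ : MulAut M) {r : ℕ}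
    (hr : r.Prime) (hφ : orderOf φ = r) (hcop : ¬ r ∣ Nat.card M) : 2 < Nat.card {x : M // φ x = x} := by
  have hc : (Nat.card M).Coprime (Nat.card (Subgroup.zpowers φ)) := by
    rw [Nat.card_zpowers, hφ]
    exact ((Nat.Prime.coprime_iff_not_dvd hr).2 hcop).symm
  have hns : ¬ Group.IsSolvable M := by
    intro h
    apply hM
    refine ⟨⟨?_⟩⟩
    intro a b
    exact IsSimpleGroup.comm_iff_isSolvable.2 h a b
  have h1 := Cfsg.Agent.H566.rich_action (A := Subgroup.zpowers φ) (G := M) (fun X _ _ _ => hS X) hc hns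
  by_contra hle
  have hfix : Nat.card {x : M // φ x = x} = Nat.card (FixedPoints.subgroup (Subgroup.zpowers φ) M) := by
    refine Nat.card_congr (Equiv.subtypeEquivRight fun x => ?_)
    constructor
    · rintro hx ⟨a, ha⟩
      obtain ⟨k, rfl⟩ := Subgroup.mem_zpowers_iff.1 ha
      show (φ ^ k) x = x
      have h2 : (φ : MulAut M) ∈ MulAction.stabilizer (MulAut M) x := hx
      exact Subgroup.zpow_mem _ h2 k
    · intro hx
      exact hx ⟨φ, Subgroup.mem_zpowers φ⟩
  rw [hfix] at hle
  apply h1.1
  have h3 : Nat.card (FixedPoints.subgroup (Subgroup.zpowers φ) M) ≤ 2 := by omega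
  have h0 : 0 < Nat.card (FixedPoints.subgroup (Subgroup.zpowers φ) M) := Nat.card_pos
  have h4 : Nat.card (FixedPoints.subgroup (Subgroup.zpowers φ) M) = 1 ∨
      Nat.card (FixedPoints.subgroup (Subgroup.zpowers φ) M) = 2 := by omega
  rcases h4 with h4 | h4
  · have := (Nat.card_eq_one_iff_unique.1 h4).1
    exact Group.isNilpotent_of_subsingleton
  · have : Fact (Nat.Prime 2) := ⟨Nat.prime_two⟩
    exact (IsPGroup.of_card (n := 1) (by rw [h4, pow_one])).isNilpotent

end Cfsg.Agent.H580.Lsp
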